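import Mathlib

/-!
# S4891, polar rows : the numbers of totally singular subspaces modulo `p` (helper31)

`c k` is the number of totally singular `k`-spaces of a polar space of rank `w` and type `ε`:
`c k ∏_{i<k} (q^(i+1) - 1) = ∏_{i<k} (q^(w-i) - 1) (q^(w-1-i+ε) + 1)`; `d` is the order of `q` modulo `p`.
-/

set_option autoImplicit false

open Finset

namespace Cfsg.Agent.H31.BR.Arith

/-- the numbers of totally singular subspaces -/
def CC (q w ε : ℕ) (c : ℕ → ℕ) : Prop :=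
  ∀ k ≤ w, c k * ∏ i ∈ range k, (q ^ (i + 1) - 1) = ∏ i ∈ range k, ((q ^ (w - i) - 1) * (q ^ (w - 1 - i + ε) + 1))

variable {p q : ℕ} [hp : Fact p.Prime]

theorem dvd_sub_one (hq : 0 < q) (j : ℕ) : p ∣ q ^ j - 1 ↔ orderOf (q : ZMod p) ∣ j := by
  have h1 : 1 ≤ q ^ j := Nat.one_le_pow _ _ hq
  rw [orderOf_dvd_iff_pow_eq_one, ← ZMod.natCast_eq_zero_iff, Nat.cast_sub h1]
  push_cast
  exact sub_eq_zero

theorem dvd_add_one (j : ℕ) : p ∣ q ^ j + 1 ↔ (q : ZMod p) ^ j = -1 := by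
  rw [← ZMod.natCast_eq_zero_iff]
  push_cast
  exact eq_neg_iff_add_eq_zero.symm

theorem one_ne_neg_one (hp2 : p ≠ 2) : (1 : ZMod p) ≠ -1 := by
  intro h
  have h1 : ((2 : ℕ) : ZMod p) = 0 := by
    push_cast
    linear_combination h
  rw [ZMod.natCast_eq_zero_iff] at h1
  exact hp2 ((Nat.prime_dvd_prime_iff_eq hp.out Nat.prime_two).1 h1)

/-- `d` odd: `q ^ j + 1` is prime to `p` -/
theorem not_dvd_add_one (hp2 : p ≠ 2) (hd : Odd (orderOf (q : ZMod p))) (j : ℕ) : ¬ p ∣ q ^ j + 1 := by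
  rw [dvd_add_one]
  intro h
  have h1 : ((q : ZMod p) ^ j) ^ orderOf (q : ZMod p) = 1 := by rw [← pow_mul, mul_comm, pow_mul, pow_orderOf_eq_one, one_pow]
  rw [h, hd.neg_one_pow] at h1
  exact one_ne_neg_one hp2 h1.symm

/-- `d = 2 e`: `q ^ e + 1` is divisible by `p` -/
theorem pow_half {e : ℕ} (he : orderOf (q : ZMod p) = 2 * e) (h0 : 0 < e) : (q : ZMod p) ^ e = -1 := by
  have h1 : ((q : ZMod p) ^ e - 1) * ((q : ZMod p) ^ e + 1) = 0 := by
    have h2 : (q : ZMod p) ^ (2 * e) = 1 := by rw [← he, pow_orderOf_eq_one]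
    rw [mul_comm 2 e, pow_mul] at h2
    linear_combination h2
  rcases mul_eq_zero.1 h1 with h2 | h2
  · exfalso
    have h3 := orderOf_dvd_of_pow_eq_one (sub_eq_zero.1 h2)
    rw [he] at h3
    have := Nat.le_of_dvd h0 h3
    omega
  · exact eq_neg_of_add_eq_zero_left h2

theorem dvd_add_one_of {e : ℕ} (he : orderOf (q : ZMod p) = 2 * e) (h0 : 0 < e) {t : ℕ} (ht : Odd t) :
    p ∣ q ^ (t * e) + 1 := by
  rw [dvd_add_one, mul_comm, pow_mul, pow_half he h0, ht.neg_one_pow]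

/-- the product of `d` consecutive factors `q ^ j + 1`, `d` odd -/
theorem prod_add_one (hp2 : p ≠ 2) (hd : Odd (orderOf (q : ZMod p))) (hq : ¬ p ∣ q) (s : ℕ) :
    ∏ i ∈ range (orderOf (q : ZMod p)), ((q : ZMod p) ^ (s + i) + 1) = 2 := by
  set x : ZMod p := (q : ZMod p) with hx
  set d := orderOf x with hdd
  have hne : ∀ j, x ^ j + 1 ≠ 0 := by
    intro j h
    exact not_dvd_add_one hp2 hd j ((dvd_add_one j).2 (eq_neg_of_add_eq_zero_left h))
  have hx0 : x ≠ 0 := by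
    intro h
    exact hq ((ZMod.natCast_eq_zero_iff _ _).1 h)
  have hxu : IsUnit x := hx0.isUnit
  have hd0 : 0 < d := orderOf_pos_iff.2 (isOfFinOrder_iff_pow_eq_one.2 ⟨p - 1, by have := hp.out.two_le; omega,
    ZMod.pow_card_sub_one_eq_one hx0⟩)
  induction s with
  | zero =>
    obtain ⟨n, hn⟩ : ∃ n, d = n + 1 := ⟨d - 1, by omega⟩
    have h1 : IsPrimitiveRoot x (n + 1) := by
      rw [← hn, hdd]
      exact IsPrimitiveRoot.orderOf x
    have h2 : IsPrimitiveRoot (x ^ 2) (n + 1) := by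
      refine h1.pow_of_coprime 2 ?_
      rw [← hn]
      exact Nat.coprime_two_left.2 hd
    have h3 := h1.prod_one_sub_pow_eq_order
    have h4 := h2.prod_one_sub_pow_eq_order
    have h5 : ∏ k ∈ range n, (1 - (x ^ 2) ^ (k + 1)) = (∏ k ∈ range n, (1 - x ^ (k + 1))) * ∏ k ∈ range n, (x ^ (k + 1) + 1) := by
      rw [← prod_mul_distrib]
      refine prod_congr rfl fun k _ => ?_
      ring
    rw [h4, h3] at h5
    have h6 : ((n : ZMod p) + 1) ≠ 0 := by
      rw [← h3]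
      rw [prod_ne_zero_iff]
      intro k hk h
      have h7 : x ^ (k + 1) = 1 := (sub_eq_zero.1 h).symm
      have h8 := Nat.le_of_dvd (Nat.succ_pos k) (orderOf_dvd_of_pow_eq_one h7)
      have := mem_range.1 hk
      omega
    have h7 : ∏ k ∈ range n, (x ^ (k + 1) + 1) = 1 := by
      have : ((n : ZMod p) + 1) * (∏ k ∈ range n, (x ^ (k + 1) + 1) - 1) = 0 := by linear_combination -h5
      rcases mul_eq_zero.1 this with h | h
      · exact absurd h h6
      · exact sub_eq_zero.1 h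
    rw [hn, prod_range_succ']
    have h8 : ∏ k ∈ range n, (x ^ (0 + (k + 1)) + 1) = 1 :=
      (prod_congr rfl fun k _ => by rw [zero_add]).trans h7
    rw [h8]
    norm_num
  | succ s ih =>
    have h1 : (∏ i ∈ range d, (x ^ (s + 1 + i) + 1)) * (x ^ s + 1) = (∏ i ∈ range d, (x ^ (s + i) + 1)) * (x ^ (s + d) + 1) := by
      rw [← prod_range_succ (fun i => x ^ (s + i) + 1) d, prod_range_succ']
      congr 1
      exact prod_congr rfl fun i _ => by rw [show s + (i + 1) = s + 1 + i by ring]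
    have h2 : x ^ (s + d) = x ^ s := by rw [pow_add, hdd, pow_orderOf_eq_one, mul_one]
    rw [h2, ih] at h1
    exact mul_right_cancel₀ (hne s) h1

/-- the order is positive -/
theorem order_pos (hq : ¬ p ∣ q) : 0 < orderOf (q : ZMod p) := by
  have hx0 : (q : ZMod p) ≠ 0 := fun h => hq ((ZMod.natCast_eq_zero_iff _ _).1 h)
  exact orderOf_pos_iff.2 (isOfFinOrder_iff_pow_eq_one.2 ⟨p - 1, by have := hp.out.two_le; omega,
    ZMod.pow_card_sub_one_eq_one hx0⟩)

theorem order_dvd (hq : ¬ p ∣ q) : orderOf (q : ZMod p) ∣ p - 1 := by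
  have hx0 : (q : ZMod p) ≠ 0 := fun h => hq ((ZMod.natCast_eq_zero_iff _ _).1 h)
  exact orderOf_dvd_of_pow_eq_one (ZMod.pow_card_sub_one_eq_one hx0)

/-- the denominators with `k < d` are prime to `p` -/
theorem not_dvd_den (hq : 0 < q) {k : ℕ} (hk : k < orderOf (q : ZMod p)) : ¬ p ∣ ∏ i ∈ range k, (q ^ (i + 1) - 1) := by
  intro h
  obtain ⟨i, hi, h1⟩ := (hp.out.prime.dvd_finsetProd_iff _).1 h
  have := Nat.le_of_dvd (Nat.succ_pos i) ((dvd_sub_one hq _).1 h1)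
  have := mem_range.1 hi
  omega

/-- small `k` : `p ∣ c k` as soon as one factor of the numerator is divisible by `p` -/
theorem dvd_small (hq : 0 < q) {w ε : ℕ} {c : ℕ → ℕ} (hc : CC q w ε c) {k : ℕ} (hkw : k ≤ w)
    (hk : k < orderOf (q : ZMod p)) {i : ℕ} (hi : i < k) (h : p ∣ (q ^ (w - i) - 1) * (q ^ (w - 1 - i + ε) + 1)) : p ∣ c k := by
  have h1 : p ∣ c k * ∏ i ∈ range k, (q ^ (i + 1) - 1) := by
    rw [hc k hkw]
    exact h.trans (dvd_prod_of_mem _ (mem_range.2 hi))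
  exact (hp.out.dvd_mul.1 h1).resolve_right (not_dvd_den hq hk)

/-- maximal subspaces -/
theorem card_max (hq : 1 < q) {w ε : ℕ} {c : ℕ → ℕ} (hc : CC q w ε c) : c w = ∏ i ∈ range w, (q ^ (i + ε) + 1) := by
  have h1 := hc w le_rfl
  rw [prod_mul_distrib] at h1
  have h2 : ∏ i ∈ range w, (q ^ (w - i) - 1) = ∏ i ∈ range w, (q ^ (i + 1) - 1) := by
    rw [← prod_range_reflect]
    refine prod_congr rfl fun i hi => ?_
    have := mem_range.1 hi
    rw [show w - (w - 1 - i) = i + 1 by omega]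
  have h3 : ∏ i ∈ range w, (q ^ (w - 1 - i + ε) + 1) = ∏ i ∈ range w, (q ^ (i + ε) + 1) :=
    prod_range_reflect (fun i => q ^ (i + ε) + 1) w
  rw [h2, h3, mul_comm] at h1
  refine Nat.eq_of_mul_eq_mul_left (prod_pos fun i _ => ?_) h1
  have : 1 < q ^ (i + 1) := Nat.one_lt_pow (Nat.succ_ne_zero i) hq
  omega

/-- **`d` even: maximal totally singular subspaces** -/
theorem dvd_card_max (hq : 1 < q) {w ε e : ℕ} {c : ℕ → ℕ} (hc : CC q w ε c) (he : orderOf (q : ZMod p) = 2 * e)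
    (h0 : 0 < e) (h1 : ε ≤ e) (h2 : e < w + ε) : p ∣ c w := by
  rw [card_max hq hc]
  have h3 : p ∣ q ^ (e - ε + ε) + 1 := by
    rw [Nat.sub_add_cancel h1]
    have := dvd_add_one_of (p := p) he h0 (t := 1) odd_one
    rwa [one_mul] at this
  exact h3.trans (dvd_prod_of_mem (fun i => q ^ (i + ε) + 1) (mem_range.2 (by omega)))

/-- the same for `d = 2`, `ε = 2` -/
theorem dvd_card_max_two (hq : 1 < q) {w : ℕ} {c : ℕ → ℕ} (hc : CC q w 2 c) (he : orderOf (q : ZMod p) = 2)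
    (hw : 2 ≤ w) : p ∣ c w := by
  rw [card_max hq hc]
  have h3 : p ∣ q ^ (1 + 2) + 1 := by
    have := dvd_add_one_of (p := p) (q := q) (e := 1) he Nat.one_pos (t := 3) (by decide)
    rwa [mul_one] at this
  exact h3.trans (dvd_prod_of_mem (fun i => q ^ (i + 2) + 1) (mem_range.2 (by omega)))

/-- **`d` odd (or arbitrary), `w = a d + b`, `b < d - 1`** : `k = b + 1` -/
theorem dvd_card_small (hq : 1 < q) {w ε a b : ℕ} {c : ℕ → ℕ} (hc : CC q w ε c)
    (hw : w = a * orderOf (q : ZMod p) + b) (ha : 1 ≤ a) (hb : b + 1 < orderOf (q : ZMod p)) : p ∣ c (b + 1) := by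
  have h1 : orderOf (q : ZMod p) ≤ a * orderOf (q : ZMod p) := Nat.le_mul_of_pos_left _ ha
  refine dvd_small (by omega) hc (by omega) hb (Nat.lt_succ_self b) ?_
  refine Dvd.dvd.mul_right ?_ _
  rw [dvd_sub_one (by omega), hw, Nat.add_sub_cancel]
  exact dvd_mul_left _ _

/-- the integer form -/
theorem CC.int (hq : 0 < q) {w ε : ℕ} {c : ℕ → ℕ} (hc : CC q w ε c) {k : ℕ} (hk : k ≤ w) :
    (c k : ℤ) * ∏ i ∈ range k, ((q : ℤ) ^ (i + 1) - 1) =
      (∏ i ∈ range k, ((q : ℤ) ^ (w - i) - 1)) * ∏ i ∈ range k, ((q : ℤ) ^ (w - 1 - i + ε) + 1) := by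
  have h1 : ∀ j : ℕ, ((q ^ j - 1 : ℕ) : ℤ) = (q : ℤ) ^ j - 1 := by
    intro j
    rw [Nat.cast_sub (Nat.one_le_pow _ _ hq)]
    push_cast
    rfl
  have h2 := congrArg (fun n : ℕ => (n : ℤ)) (hc k hk)
  simp only [Nat.cast_mul, Nat.cast_prod, h1, Nat.cast_add, Nat.cast_pow, Nat.cast_one] at h2
  rw [h2, prod_mul_distrib]

section lin

variable {w ε a : ℕ} {c : ℕ → ℕ}

/-- the geometric sum -/
def G (q d a : ℕ) : ℤ := ∑ j ∈ range a, ((q : ℤ) ^ d) ^ j

theorem G_mul (d a : ℕ) : G q d a * ((q : ℤ) ^ d - 1) = (q : ℤ) ^ (a * d) - 1 := by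
  rw [G, geom_sum_mul, ← pow_mul, mul_comm d a]

theorem G_cast (a : ℕ) : ((G q (orderOf (q : ZMod p)) a : ℤ) : ZMod p) = a := by
  rw [G]
  push_cast
  rw [pow_orderOf_eq_one]
  simp

/-- a block of `d - 1` denominators -/
theorem den_block (t : ℕ) : ∏ i ∈ range (orderOf (q : ZMod p) - 1), ((q : ZMod p) ^ (t * orderOf (q : ZMod p) + (i + 1)) - 1) =
    ∏ i ∈ range (orderOf (q : ZMod p) - 1), ((q : ZMod p) ^ (i + 1) - 1) := by
  refine prod_congr rfl fun i _ => ?_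
  rw [pow_add, mul_comm t, pow_mul, pow_orderOf_eq_one, one_pow, one_mul]

theorem num_block (t : ℕ) : ∏ i ∈ range (orderOf (q : ZMod p) - 1),
      ((q : ZMod p) ^ (t * orderOf (q : ZMod p) + (orderOf (q : ZMod p) - 1 - i)) - 1) =
    ∏ i ∈ range (orderOf (q : ZMod p) - 1), ((q : ZMod p) ^ (i + 1) - 1) := by
  rw [← prod_range_reflect (fun i => (q : ZMod p) ^ (i + 1) - 1)]
  refine prod_congr rfl fun i hi => ?_
  have := mem_range.1 hi
  rw [pow_add, mul_comm t, pow_mul, pow_orderOf_eq_one, one_pow, one_mul,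
    show orderOf (q : ZMod p) - 1 - 1 - i + 1 = orderOf (q : ZMod p) - 1 - i by omega]

theorem block_ne : ∏ i ∈ range (orderOf (q : ZMod p) - 1), ((q : ZMod p) ^ (i + 1) - 1) ≠ 0 := by
  rw [prod_ne_zero_iff]
  intro i hi h
  have h1 := Nat.le_of_dvd (Nat.succ_pos i) (orderOf_dvd_of_pow_eq_one (sub_eq_zero.1 h))
  have := mem_range.1 hi
  omega

/-- a block of `d` factors `q ^ j + 1`, descending -/
theorem plus_block (hp2 : p ≠ 2) (hd : Odd (orderOf (q : ZMod p))) (hq : ¬ p ∣ q) (s : ℕ) :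
    ∏ i ∈ range (orderOf (q : ZMod p)), ((q : ZMod p) ^ (s + (orderOf (q : ZMod p) - 1 - i)) + 1) = 2 := by
  rw [← prod_add_one hp2 hd hq s]
  exact prod_range_reflect (fun i => (q : ZMod p) ^ (s + i) + 1) _

/-- **linear type, `k = d`** : `c d = 2 a` modulo `p` -/
theorem card_lin (hp2 : p ≠ 2) (hq : 1 < q) (hpq : ¬ p ∣ q) (hc : CC q w ε c) (hd : Odd (orderOf (q : ZMod p)))
    (hd1 : 1 < orderOf (q : ZMod p))
    (ha : 1 ≤ a) (hw : w = a * orderOf (q : ZMod p) + (orderOf (q : ZMod p) - 1)) :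
    (c (orderOf (q : ZMod p)) : ZMod p) = 2 * a := by
  set d := orderOf (q : ZMod p) with hdd
  have hle : d ≤ a * d := Nat.le_mul_of_pos_left _ ha
  have h1 := hc.int (by omega) (k := d) (by omega)
  obtain ⟨n, hn⟩ : ∃ n, d = n + 1 := ⟨d - 1, by omega⟩
  have e1 : ∏ i ∈ range d, ((q : ℤ) ^ (i + 1) - 1) = (∏ i ∈ range (d - 1), ((q : ℤ) ^ (i + 1) - 1)) * ((q : ℤ) ^ d - 1) := by
    rw [hn, prod_range_succ, Nat.add_sub_cancel]
  have e2 : ∏ i ∈ range d, ((q : ℤ) ^ (w - i) - 1) =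
      (∏ i ∈ range (d - 1), ((q : ℤ) ^ (a * d + (d - 1 - i)) - 1)) * (G q d a * ((q : ℤ) ^ d - 1)) := by
    have e3 : ∏ i ∈ range d, ((q : ℤ) ^ (w - i) - 1) =
        (∏ i ∈ range (d - 1), ((q : ℤ) ^ (w - i) - 1)) * ((q : ℤ) ^ (w - (d - 1)) - 1) := by
      conv_lhs => rw [hn, prod_range_succ]
      rw [hn, Nat.add_sub_cancel]
    rw [e3, G_mul, show w - (d - 1) = a * d by omega]
    congr 1
    refine prod_congr rfl fun i hi => ?_
    have := mem_range.1 hi
    rw [show w - i = a * d + (d - 1 - i) by omega]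
  have e4 : ∏ i ∈ range d, ((q : ℤ) ^ (w - 1 - i + ε) + 1) =
      ∏ i ∈ range d, ((q : ℤ) ^ ((w - d + ε) + (d - 1 - i)) + 1) := by
    refine prod_congr rfl fun i hi => ?_
    have := mem_range.1 hi
    rw [show w - 1 - i + ε = (w - d + ε) + (d - 1 - i) by omega]
  rw [e1, e2, e4] at h1
  have hne : ((q : ℤ) ^ d - 1) ≠ 0 := by
    have : (1 : ℤ) < (q : ℤ) ^ d := one_lt_pow₀ (by exact_mod_cast hq) (by omega)
    omega
  have h2 : (c d : ℤ) * ∏ i ∈ range (d - 1), ((q : ℤ) ^ (i + 1) - 1) =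
      (∏ i ∈ range (d - 1), ((q : ℤ) ^ (a * d + (d - 1 - i)) - 1)) * G q d a *
        ∏ i ∈ range d, ((q : ℤ) ^ ((w - d + ε) + (d - 1 - i)) + 1) := by
    refine mul_right_cancel₀ hne ?_
    linear_combination h1
  have h3 := congrArg (fun z : ℤ => (z : ZMod p)) h2
  simp only [Int.cast_mul, Int.cast_prod, Int.cast_sub, Int.cast_add, Int.cast_pow, Int.cast_natCast, Int.cast_one] at h3
  have h4 : ((G q d a : ℤ) : ZMod p) = a := G_cast a
  rw [h4, num_block a, plus_block hp2 hd hpq] at h3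
  refine mul_right_cancel₀ (block_ne (p := p) (q := q)) ?_
  rw [h3]
  ring

/-- **linear type, `k = 2 d`** : `c (2 d) = 2 a (a - 1)` modulo `p` -/
theorem card_lin_two (hp2 : p ≠ 2) (hq : 1 < q) (hpq : ¬ p ∣ q) (hc : CC q w ε c) (hd : Odd (orderOf (q : ZMod p)))
    (hd1 : 1 < orderOf (q : ZMod p))
    (ha : 2 ≤ a) (hw : w = a * orderOf (q : ZMod p) + (orderOf (q : ZMod p) - 1)) :
    (c (2 * orderOf (q : ZMod p)) : ZMod p) = 2 * a * (a - 1) := by
  set d := orderOf (q : ZMod p) with hdd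
  have hle : 2 * d ≤ a * d := Nat.mul_le_mul_right d ha
  have h1 := hc.int (by omega) (k := 2 * d) (by omega)
  obtain ⟨n, hn⟩ : ∃ n, d = n + 1 := ⟨d - 1, by omega⟩
  obtain ⟨a', ha'⟩ : ∃ a', a = a' + 1 := ⟨a - 1, by omega⟩
  have had : a * d = a' * d + d := by rw [ha']; ring
  -- splitting a product over `2 d` factors
  have spl : ∀ f : ℕ → ℤ, ∏ i ∈ range (2 * d), f i =
      ((∏ i ∈ range (d - 1), f i) * f (d - 1)) * ((∏ i ∈ range (d - 1), f (d + i)) * f (d + (d - 1))) := by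
    intro f
    have h5 : ∀ g : ℕ → ℤ, ∏ i ∈ range d, g i = (∏ i ∈ range (d - 1), g i) * g (d - 1) := by
      intro g
      conv_lhs => rw [hn, prod_range_succ]
      rw [hn, Nat.add_sub_cancel]
    rw [two_mul, prod_range_add, h5, h5]
  have spl2 : ∀ f : ℕ → ℤ, ∏ i ∈ range (2 * d), f i = (∏ i ∈ range d, f i) * ∏ i ∈ range d, f (d + i) := by
    intro f
    rw [two_mul, prod_range_add]
  rw [spl (fun i => (q : ℤ) ^ (i + 1) - 1), spl (fun i => (q : ℤ) ^ (w - i) - 1), spl2 (fun i => (q : ℤ) ^ (w - 1 - i + ε) + 1)] at h1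
  have e1 : ∏ i ∈ range (d - 1), ((q : ℤ) ^ (w - i) - 1) = ∏ i ∈ range (d - 1), ((q : ℤ) ^ (a * d + (d - 1 - i)) - 1) := by
    refine prod_congr rfl fun i hi => ?_
    have := mem_range.1 hi
    rw [show w - i = a * d + (d - 1 - i) by omega]
  have e2 : ∏ i ∈ range (d - 1), ((q : ℤ) ^ (w - (d + i)) - 1) = ∏ i ∈ range (d - 1), ((q : ℤ) ^ (a' * d + (d - 1 - i)) - 1) := by
    refine prod_congr rfl fun i hi => ?_
    have := mem_range.1 hi
    rw [show w - (d + i) = a' * d + (d - 1 - i) by omega]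
  have e3 : ∏ i ∈ range d, ((q : ℤ) ^ (w - 1 - i + ε) + 1) = ∏ i ∈ range d, ((q : ℤ) ^ ((w - d + ε) + (d - 1 - i)) + 1) := by
    refine prod_congr rfl fun i hi => ?_
    have := mem_range.1 hi
    rw [show w - 1 - i + ε = (w - d + ε) + (d - 1 - i) by omega]
  have e4 : ∏ i ∈ range d, ((q : ℤ) ^ (w - 1 - (d + i) + ε) + 1) =
      ∏ i ∈ range d, ((q : ℤ) ^ ((w - 2 * d + ε) + (d - 1 - i)) + 1) := by
    refine prod_congr rfl fun i hi => ?_
    have := mem_range.1 hi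
    rw [show w - 1 - (d + i) + ε = (w - 2 * d + ε) + (d - 1 - i) by omega]
  have e5 : (q : ℤ) ^ (d - 1 + 1) - 1 = (q : ℤ) ^ d - 1 := by rw [show d - 1 + 1 = d by omega]
  have e6 : ∏ i ∈ range (d - 1), ((q : ℤ) ^ (d + i + 1) - 1) = ∏ i ∈ range (d - 1), ((q : ℤ) ^ (1 * d + (i + 1)) - 1) := by
    refine prod_congr rfl fun i hi => ?_
    rw [show d + i + 1 = 1 * d + (i + 1) by omega]
  have e7 : (q : ℤ) ^ (d + (d - 1) + 1) - 1 = G q d 2 * ((q : ℤ) ^ d - 1) := by
    rw [G_mul, show d + (d - 1) + 1 = 2 * d by omega]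
  have e8 : (q : ℤ) ^ (w - (d - 1)) - 1 = G q d a * ((q : ℤ) ^ d - 1) := by
    rw [G_mul, show w - (d - 1) = a * d by omega]
  have e9 : (q : ℤ) ^ (w - (d + (d - 1))) - 1 = G q d a' * ((q : ℤ) ^ d - 1) := by
    rw [G_mul, show w - (d + (d - 1)) = a' * d by omega]
  rw [e1, e2, e3, e4, e5, e6, e7, e8, e9] at h1
  have hne : ((q : ℤ) ^ d - 1) ≠ 0 := by
    have : (1 : ℤ) < (q : ℤ) ^ d := one_lt_pow₀ (by exact_mod_cast hq) (by omega)
    omega
  have h2 : (c (2 * d) : ℤ) * ((∏ i ∈ range (d - 1), ((q : ℤ) ^ (i + 1) - 1)) *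
        ((∏ i ∈ range (d - 1), ((q : ℤ) ^ (1 * d + (i + 1)) - 1)) * G q d 2)) =
      (∏ i ∈ range (d - 1), ((q : ℤ) ^ (a * d + (d - 1 - i)) - 1)) * G q d a *
        ((∏ i ∈ range (d - 1), ((q : ℤ) ^ (a' * d + (d - 1 - i)) - 1)) * G q d a') *
        ((∏ i ∈ range d, ((q : ℤ) ^ ((w - d + ε) + (d - 1 - i)) + 1)) *
        ∏ i ∈ range d, ((q : ℤ) ^ ((w - 2 * d + ε) + (d - 1 - i)) + 1)) := by
    refine mul_right_cancel₀ (mul_ne_zero hne hne) ?_
    linear_combination h1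
  have h3 := congrArg (fun z : ℤ => (z : ZMod p)) h2
  simp only [Int.cast_mul, Int.cast_prod, Int.cast_sub, Int.cast_add, Int.cast_pow, Int.cast_natCast, Int.cast_one] at h3
  have h4 : ((G q d a : ℤ) : ZMod p) = a := G_cast a
  have h4' : ((G q d a' : ℤ) : ZMod p) = a' := G_cast a'
  have h4'' : ((G q d 2 : ℤ) : ZMod p) = (2 : ℕ) := G_cast 2
  rw [h4, h4', h4'', num_block a, num_block a', den_block 1, plus_block hp2 hd hpq, plus_block hp2 hd hpq] at h3
  have h20 : ((2 : ℕ) : ZMod p) ≠ 0 := by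
    rw [Ne, ZMod.natCast_eq_zero_iff]
    exact fun h => hp2 ((Nat.prime_dvd_prime_iff_eq hp.out Nat.prime_two).1 h)
  refine mul_right_cancel₀ (mul_ne_zero (mul_ne_zero (block_ne (p := p) (q := q)) (block_ne (p := p) (q := q))) h20) ?_
  rw [ha']
  rw [ha'] at h3
  push_cast at h3 ⊢
  linear_combination h3

end lin

/-! ## The case distinctions -/

/-- the symplectic form of the numbers -/
theorem CC.of_sp {m : ℕ} {c : ℕ → ℕ}
    (hc : ∀ k ≤ m, c k * ∏ i ∈ range k, (q ^ (i + 1) - 1) = ∏ i ∈ range k, (q ^ (2 * (m - i)) - 1)) : CC q m 1 c := by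
  intro k hk
  rw [hc k hk]
  refine prod_congr rfl fun i hi => ?_
  have := mem_range.1 hi
  have h1 := Nat.mul_self_sub_mul_self_eq (q ^ (m - i)) 1
  rw [mul_one] at h1
  rw [show m - 1 - i + 1 = m - i by omega, two_mul, pow_add, h1, mul_comm]

/-- `p ∣ q ^ (2 i) - 1` -/
theorem dvd_two_mul (hq : 0 < q) (hd : Odd (orderOf (q : ZMod p))) {i : ℕ} (h : p ∣ q ^ (2 * i) - 1) :
    orderOf (q : ZMod p) ∣ i :=
  (Nat.coprime_two_right.2 hd).dvd_of_dvd_mul_left ((dvd_sub_one hq _).1 h)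

theorem dvd_two_mul_even (hq : 0 < q) {e : ℕ} (he : orderOf (q : ZMod p) = 2 * e) {i : ℕ} (h : p ∣ q ^ (2 * i) - 1) :
    e ∣ i := by
  have h1 := (dvd_sub_one hq _).1 h
  rw [he] at h1
  exact Nat.dvd_of_mul_dvd_mul_left Nat.two_pos h1

/-- division with remainder -/
theorem exists_div {d m : ℕ} (hd : 0 < d) (h : d ≤ m) : ∃ a b, 1 ≤ a ∧ b < d ∧ m = a * d + b :=
  ⟨m / d, m % d, Nat.div_pos h hd, Nat.mod_lt _ hd, (Nat.div_add_mod' m d).symm⟩

/-- **(A1) symplectic and odd orthogonal spaces** -/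
theorem cases_sp (hq : 1 < q) (hpq : ¬ p ∣ q) {m : ℕ} {c : ℕ → ℕ} (hc : CC q m 1 c)
    (hd1 : 2 ≤ orderOf (q : ZMod p)) (hS : p ∣ ∏ i ∈ range m, (q ^ (2 * (i + 1)) - 1)) :
    (∃ k, 1 ≤ k ∧ k ≤ m ∧ p ∣ c k) ∨
      (Odd (orderOf (q : ZMod p)) ∧ ∃ a, 1 ≤ a ∧ m = a * orderOf (q : ZMod p) + (orderOf (q : ZMod p) - 1)) := by
  obtain ⟨i, hi, h1⟩ := (hp.out.prime.dvd_finsetProd_iff _).1 hS
  have hi' := mem_range.1 hi
  rcases Nat.even_or_odd' (orderOf (q : ZMod p)) with ⟨e, he | he⟩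
  · left
    have h2 := Nat.le_of_dvd (Nat.succ_pos i) (dvd_two_mul_even (by omega) he h1)
    exact ⟨m, by omega, le_rfl, dvd_card_max hq hc he (by omega) (by omega) (by omega)⟩
  · have hodd : Odd (orderOf (q : ZMod p)) := ⟨e, he⟩
    have h2 := Nat.le_of_dvd (Nat.succ_pos i) (dvd_two_mul (by omega) hodd h1)
    obtain ⟨a, b, ha, hb, hm⟩ := exists_div (order_pos hpq) (show orderOf (q : ZMod p) ≤ m by omega)
    by_cases hb1 : b + 1 < orderOf (q : ZMod p)
    · left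
      have := Nat.le_mul_of_pos_left (orderOf (q : ZMod p)) ha
      exact ⟨b + 1, by omega, by omega, dvd_card_small hq hc hm ha hb1⟩
    · right
      exact ⟨hodd, a, ha, by rw [hm]; omega⟩

/-- **(A2) orthogonal spaces of minus type** of dimension `2 (w + 1)`, Witt index `w` -/
theorem cases_minus (hq : 1 < q) (hp2 : p ≠ 2) (hpq : ¬ p ∣ q) {w : ℕ} (hw : 2 ≤ w) {c : ℕ → ℕ} (hc : CC q w 2 c)
    (hd1 : 2 ≤ orderOf (q : ZMod p)) (hS : p ∣ (q ^ (w + 1) + 1) * ∏ i ∈ range w, (q ^ (2 * (i + 1)) - 1)) :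
    (∃ k, 1 ≤ k ∧ k ≤ w ∧ p ∣ c k) ∨
      (Odd (orderOf (q : ZMod p)) ∧ ∃ a, 1 ≤ a ∧ w = a * orderOf (q : ZMod p) + (orderOf (q : ZMod p) - 1)) := by
  rcases Nat.even_or_odd' (orderOf (q : ZMod p)) with ⟨e, he | he⟩
  · left
    refine ⟨w, by omega, le_rfl, ?_⟩
    have h2 : e ≤ w + 1 := by
      rcases hp.out.dvd_mul.1 hS with h | h
      · have h3 := (dvd_add_one _).1 h
        have h4 : (q : ZMod p) ^ (2 * (w + 1)) = 1 := by rw [mul_comm, pow_mul, h3, neg_one_sq]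
        have h5 := orderOf_dvd_of_pow_eq_one h4
        rw [he] at h5
        exact Nat.le_of_dvd (Nat.succ_pos w) (Nat.dvd_of_mul_dvd_mul_left Nat.two_pos h5)
      · obtain ⟨i, hi, h1⟩ := (hp.out.prime.dvd_finsetProd_iff _).1 h
        have hi' := mem_range.1 hi
        have h2 := Nat.le_of_dvd (Nat.succ_pos i) (dvd_two_mul_even (by omega) he h1)
        omega
    by_cases he1 : e = 1
    · subst he1
      exact dvd_card_max_two hq hc he hw
    · exact dvd_card_max hq hc he (by omega) (by omega) (by omega)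
  · have hodd : Odd (orderOf (q : ZMod p)) := ⟨e, he⟩
    have h := (hp.out.dvd_mul.1 hS).resolve_left (not_dvd_add_one hp2 hodd _)
    obtain ⟨i, hi, h1⟩ := (hp.out.prime.dvd_finsetProd_iff _).1 h
    have hi' := mem_range.1 hi
    have h2 := Nat.le_of_dvd (Nat.succ_pos i) (dvd_two_mul (by omega) hodd h1)
    obtain ⟨a, b, ha, hb, hm⟩ := exists_div (order_pos hpq) (show orderOf (q : ZMod p) ≤ w by omega)
    by_cases hb1 : b + 1 < orderOf (q : ZMod p)
    · left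
      have := Nat.le_mul_of_pos_left (orderOf (q : ZMod p)) ha
      exact ⟨b + 1, by omega, by omega, dvd_card_small hq hc hm ha hb1⟩
    · right
      exact ⟨hodd, a, ha, by rw [hm]; omega⟩

/-- the hypothesis on the order for plus type -/
theorem plus_hyp (hq : 1 < q) {m : ℕ} (hS : p ∣ (q ^ m - 1) * ∏ i ∈ range (m - 1), (q ^ (2 * (i + 1)) - 1)) :
    orderOf (q : ZMod p) ∣ m ∨ ∃ i, i + 1 < m ∧ p ∣ q ^ (2 * (i + 1)) - 1 := by
  rcases hp.out.dvd_mul.1 hS with h | h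
  · exact Or.inl ((dvd_sub_one (by omega) _).1 h)
  · obtain ⟨i, hi, h1⟩ := (hp.out.prime.dvd_finsetProd_iff _).1 h
    have hi' := mem_range.1 hi
    exact Or.inr ⟨i, by omega, h1⟩

/-- **(A3) orthogonal spaces of plus type**, `d` odd -/
theorem cases_plus_odd (hq : 1 < q) (hpq : ¬ p ∣ q) {m : ℕ} (hm5 : 5 ≤ m) {c : ℕ → ℕ} (hc : CC q m 0 c)
    (hd1 : 2 ≤ orderOf (q : ZMod p)) (hodd : Odd (orderOf (q : ZMod p)))
    (hS : p ∣ (q ^ m - 1) * ∏ i ∈ range (m - 1), (q ^ (2 * (i + 1)) - 1)) :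
    (∃ k, 1 ≤ k ∧ 2 * k < m ∧ p ∣ c k) ∨
      (∃ a, 1 ≤ a ∧ m = a * orderOf (q : ZMod p) + (orderOf (q : ZMod p) - 1)) ∨ m = 2 * orderOf (q : ZMod p) - 2 := by
  have hle : orderOf (q : ZMod p) ≤ m := by
    rcases plus_hyp hq hS with h | ⟨i, hi, h⟩
    · exact Nat.le_of_dvd (by omega) h
    · have := Nat.le_of_dvd (Nat.succ_pos i) (dvd_two_mul (by omega) hodd h)
      omega
  obtain ⟨a, b, ha, hb, hm⟩ := exists_div (order_pos hpq) hle
  by_cases hb1 : b + 1 < orderOf (q : ZMod p)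
  · by_cases h2 : 2 * (b + 1) < m
    · exact Or.inl ⟨b + 1, by omega, h2, dvd_card_small hq hc hm ha hb1⟩
    · right
      right
      have h3 : a = 1 := by
        by_contra h4
        have : 2 * orderOf (q : ZMod p) ≤ a * orderOf (q : ZMod p) := Nat.mul_le_mul_right _ (by omega)
        omega
      subst h3
      omega
  · right
    left
    exact ⟨a, ha, by rw [hm]; omega⟩

/-- **(A3) orthogonal spaces of plus type**, `d` even -/
theorem cases_plus_even (hq : 1 < q) {m : ℕ} (hm5 : 5 ≤ m) {c : ℕ → ℕ} (hc : CC q m 0 c)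
    {j : ℕ} (hj : 1 ≤ j) (hd : orderOf (q : ZMod p) = 2 * j)
    (hS : p ∣ (q ^ m - 1) * ∏ i ∈ range (m - 1), (q ^ (2 * (i + 1)) - 1)) :
    (∃ k, 1 ≤ k ∧ 2 * k < m ∧ p ∣ c k) ∨ (m = 6 ∧ orderOf (q : ZMod p) = 4) := by
  have hle : j + 1 ≤ m := by
    rcases plus_hyp hq hS with h | ⟨i, hi, h⟩
    · have := Nat.le_of_dvd (by omega) h
      omega
    · have := Nat.le_of_dvd (Nat.succ_pos i) (dvd_two_mul_even (by omega) hd h)
      omega
  obtain ⟨a, b, ha, hb, hm⟩ := exists_div (show 0 < j by omega) (show j ≤ m by omega)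
  have haj : j ≤ a * j := Nat.le_mul_of_pos_left _ ha
  rcases Nat.even_or_odd a with hae | hao
  · -- `a` even : `k = b + 1`
    left
    have h2 : 2 * j ≤ a * j := by
      obtain ⟨t, rfl⟩ := hae
      exact Nat.mul_le_mul_right _ (by omega)
    refine ⟨b + 1, by omega, by omega, dvd_small (by omega) hc (by omega) (by omega) (Nat.lt_succ_self b) ?_⟩
    refine Dvd.dvd.mul_right ?_ _
    rw [dvd_sub_one (by omega), hm, Nat.add_sub_cancel, hd]
    obtain ⟨t, rfl⟩ := hae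
    exact ⟨t, by ring⟩
  · rcases Nat.eq_zero_or_pos b with hb0 | hb0
    · subst hb0
      obtain ⟨t, rfl⟩ := hao
      have ht : 1 ≤ t := by
        rcases Nat.eq_zero_or_pos t with h | h
        · subst h
          omega
        · exact h
      by_cases hj1 : j = 1
      · -- `d = 2`
        subst hj1
        left
        have h2 : m = 2 * t + 1 := by omega
        refine ⟨2, by omega, by omega, ?_⟩
        have h3 := hc.int (by omega) (k := 2) (by omega)
        simp only [prod_range_succ, prod_range_zero, one_mul, Nat.sub_zero, zero_add, Nat.add_zero] at h3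
        have h4 : (q : ℤ) ^ (m - 1) - 1 = G q 2 t * ((q : ℤ) ^ (1 + 1) - 1) := by
          rw [show (1 + 1) = 2 from rfl, G_mul, show m - 1 = t * 2 by omega]
        have hne : ((q : ℤ) ^ (1 + 1) - 1) ≠ 0 := by
          have : (1 : ℤ) < (q : ℤ) ^ (1 + 1) := one_lt_pow₀ (by exact_mod_cast hq) (by omega)
          omega
        have h5 : (c 2 : ℤ) * ((q : ℤ) ^ 1 - 1) =
            ((q : ℤ) ^ m - 1) * G q 2 t * ((q : ℤ) ^ (m - 1) + 1) * ((q : ℤ) ^ (m - 1 - 1) + 1) := by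
          refine mul_right_cancel₀ hne ?_
          rw [h4] at h3
          linear_combination h3
        have h6 : (p : ℤ) ∣ (q : ℤ) ^ (m - 1 - 1) + 1 := by
          have h7 := dvd_add_one_of (p := p) (q := q) (e := 1) hd Nat.one_pos (t := m - 1 - 1)
            ⟨t - 1, by omega⟩
          rw [mul_one] at h7
          exact_mod_cast h7
        have h7 : (p : ℤ) ∣ (c 2 : ℤ) * ((q : ℤ) ^ 1 - 1) := h5 ▸ Dvd.dvd.mul_left h6 _
        rcases (Nat.prime_iff_prime_int.1 hp.out).dvd_or_dvd h7 with h8 | h8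
        · exact_mod_cast h8
        · exfalso
          have h9 : (p : ℤ) ∣ ((q ^ 1 - 1 : ℕ) : ℤ) := by
            rw [Nat.cast_sub (Nat.one_le_pow _ _ (by omega))]
            push_cast
            exact h8
          have h10 := (dvd_sub_one (by omega) 1).1 (Int.natCast_dvd_natCast.1 h9)
          have := Nat.le_of_dvd Nat.one_pos h10
          omega
      · by_cases h2 : 2 * (j + 1) < m
        · left
          refine ⟨j + 1, by omega, h2, dvd_small (by omega) hc (by omega) (by omega) (Nat.lt_succ_self j) ?_⟩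
          refine Dvd.dvd.mul_right ?_ _
          rw [dvd_sub_one (by omega), hd]
          exact ⟨t, by rw [hm, add_zero, Nat.sub_eq_iff_eq_add (by nlinarith)]; ring⟩
        · right
          have h3 : t = 1 := by
            by_contra h4
            have : 5 * j ≤ (2 * t + 1) * j := Nat.mul_le_mul_right _ (by omega)
            omega
          subst h3
          constructor <;> omega
    · left
      refine ⟨b, hb0, by omega, dvd_small (by omega) hc (by omega) (by omega) (show b - 1 < b by omega) ?_⟩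
      refine Dvd.dvd.mul_left ?_ _
      rw [show m - 1 - (b - 1) + 0 = a * j by omega]
      exact dvd_add_one_of hd (by omega) hao

/-- **(A4)** : in the linear type `2 a = 1` modulo `p` forces `a > d` and `2 a (a - 1) ≠ 1` -/
theorem lin_arith (hp2 : p ≠ 2) (hpq : ¬ p ∣ q) (hodd : Odd (orderOf (q : ZMod p))) (hd1 : 2 ≤ orderOf (q : ZMod p))
    {a : ℕ} (h : (2 * a : ZMod p) = 1) : orderOf (q : ZMod p) + 1 ≤ a ∧ (2 * a * (a - 1) : ZMod p) ≠ 1 := by
  have h1 : 2 * orderOf (q : ZMod p) ∣ p - 1 := by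
    refine Nat.Coprime.mul_dvd_of_dvd_of_dvd (Nat.coprime_two_left.2 hodd) ?_ (order_dvd hpq)
    have := hp.out.eq_two_or_odd'.resolve_left hp2
    obtain ⟨t, ht⟩ := this
    exact ⟨t, by omega⟩
  have h2 : 2 * orderOf (q : ZMod p) + 1 ≤ p := by
    have := Nat.le_of_dvd (by have := hp.out.two_le; omega) h1
    omega
  obtain ⟨e, he⟩ := hodd
  constructor
  · by_contra h3
    have h4 : ((2 * a : ℕ) : ZMod p) = ((1 : ℕ) : ZMod p) := by push_cast; exact h
    rw [ZMod.natCast_eq_natCast_iff'] at h4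
    rw [Nat.mod_eq_of_lt (by omega), Nat.mod_eq_of_lt (by omega)] at h4
    omega
  · rw [h, one_mul]
    intro h3
    have h4 : ((3 : ℕ) : ZMod p) = 0 := by
      have h5 : (a : ZMod p) = 2 := by linear_combination h3
      rw [h5] at h
      push_cast
      linear_combination h
    rw [ZMod.natCast_eq_zero_iff] at h4
    have := Nat.le_of_dvd (by norm_num) h4
    omega

end Cfsg.Agent.H31.BR.Arith
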