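import Cfsg.Agent.H2.Pol.Defs

/-!
# The number of totally singular subspaces of a polar space (helper31, S4891)

`card_X` : if for every `U` in `X k`, `k < w`, the orthogonal space of `U` contains exactly `q ^ k (a k + 1)` singular
vectors, then `|X k| ∏_{i < k} (q ^ (i + 1) - 1) = ∏_{i < k} a i` for `k ≤ w`.
-/

set_option autoImplicit false

open Module Cfsg.Agent.H2.Pol

namespace Cfsg.Agent.H31.BR.CardX

variable {F V : Type*} [Field F] [AddCommGroup V] [Module F V] {Φ : Pol F V}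

theorem ti_span_singleton (hself : ∀ x, Φ.sing x → Φ.L x x = 0 ∧ ∀ a : F, Φ.sing (a • x)) {x : V} (hx : Φ.sing x) : Φ.TI (Submodule.span F {x}) := by
  refine ⟨fun y hy => ?_, fun y hy z hz => ?_⟩
  · obtain ⟨a, rfl⟩ := Submodule.mem_span_singleton.1 hy
    exact (hself x hx).2 a
  · obtain ⟨a, rfl⟩ := Submodule.mem_span_singleton.1 hy
    obtain ⟨b, rfl⟩ := Submodule.mem_span_singleton.1 hz
    rw [map_smul]
    have h1 : Φ.L x (b • x) = 0 := by rw [map_smul, (hself x hx).1, smul_zero]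
    rw [Φ.refl _ _ h1, smul_zero]

theorem ti_span_cons (hself : ∀ x, Φ.sing x → Φ.L x x = 0 ∧ ∀ a : F, Φ.sing (a • x)) {k : ℕ} {v : Fin k → V} {x : V} :
    Φ.TI (Submodule.span F (Set.range (Fin.cons x v : Fin (k + 1) → V))) ↔
      Φ.TI (Submodule.span F (Set.range v)) ∧ Φ.sing x ∧ x ∈ Φ.perp (Submodule.span F (Set.range v)) := by
  rw [Fin.range_cons, Submodule.span_insert]
  constructor
  · intro h
    refine ⟨h.mono le_sup_right, h.1 x (Submodule.mem_sup_left (Submodule.mem_span_singleton_self x)), fun y hy => ?_⟩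
    exact h.2 x (Submodule.mem_sup_left (Submodule.mem_span_singleton_self x)) y (Submodule.mem_sup_right hy)
  · rintro ⟨h1, h2, h3⟩
    refine (ti_span_singleton hself h2).sup h1 ?_
    rw [Pol.orth_iff_le_perp, Submodule.span_singleton_le_iff_mem]
    exact h3

/-- the frames: bases of totally singular subspaces of dimension `k` -/
def Fr (Φ : Pol F V) (k : ℕ) : Type _ := {v : Fin k → V // LinearIndependent F v ∧ Φ.TI (Submodule.span F (Set.range v))}

/-- the subspace spanned by a frame -/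
def Fr.sp {k : ℕ} (v : Fr Φ k) : Φ.X k :=
  ⟨Submodule.span F (Set.range v.1), v.2.2, by rw [finrank_span_eq_card v.2.1, Fintype.card_fin]⟩

/-- a frame is a vector in front of a frame -/
noncomputable def frEquiv (hself : ∀ x, Φ.sing x → Φ.L x x = 0 ∧ ∀ a : F, Φ.sing (a • x)) (k : ℕ) : Fr Φ (k + 1) ≃
    Σ v : Fr Φ k, {x : V // x ∉ v.sp.1 ∧ Φ.sing x ∧ x ∈ Φ.perp v.sp.1} where
  toFun v := ⟨⟨Fin.tail v.1, by
      have h1 := v.2
      rw [← Fin.cons_self_tail v.1, linearIndependent_finCons, ti_span_cons hself] at h1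
      exact ⟨h1.1.1, h1.2.1⟩⟩, ⟨v.1 0, by
      have h1 := v.2
      rw [← Fin.cons_self_tail v.1, linearIndependent_finCons, ti_span_cons hself] at h1
      exact ⟨h1.1.2, h1.2.2⟩⟩⟩
  invFun s := ⟨Fin.cons s.2.1 s.1.1, linearIndependent_finCons.2 ⟨s.1.2.1, s.2.2.1⟩,
    (ti_span_cons hself).2 ⟨s.1.2.2, s.2.2.2⟩⟩
  left_inv v := Subtype.ext (Fin.cons_self_tail v.1)
  right_inv s := by
    obtain ⟨⟨v, hv⟩, ⟨x, hx⟩⟩ := s
    rfl

variable [Finite F] [FiniteDimensional F V]

instance (k : ℕ) : Finite (Fr Φ k) := by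
  have : Finite V := Module.finite_of_finite F
  exact Subtype.finite

theorem card_fr_succ (hself : ∀ x, Φ.sing x → Φ.L x x = 0 ∧ ∀ a : F, Φ.sing (a • x)) (k a : ℕ)
    (h : ∀ U : Φ.X k, Nat.card {v : V // Φ.sing v ∧ v ∈ Φ.perp U.1} = Nat.card F ^ k * (a + 1)) :
    Nat.card (Fr Φ (k + 1)) = Nat.card (Fr Φ k) * (Nat.card F ^ k * a) := by
  have hV : Finite V := Module.finite_of_finite F
  have hft : Fintype (Fr Φ k) := Fintype.ofFinite _
  rw [Nat.card_congr (frEquiv hself k), Nat.card_sigma, Nat.card_eq_fintype_card (α := Fr Φ k)]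
  have key : ∀ v : Fr Φ k, Nat.card {x : V // x ∉ v.sp.1 ∧ Φ.sing x ∧ x ∈ Φ.perp v.sp.1} = Nat.card F ^ k * a := by
    intro v
    have h1 := h v.sp
    have h2 : Nat.card {x : V // Φ.sing x ∧ x ∈ Φ.perp v.sp.1} =
        Nat.card v.sp.1 + Nat.card {x : V // x ∉ v.sp.1 ∧ Φ.sing x ∧ x ∈ Φ.perp v.sp.1} := by
      classical
      let e : {x : V // Φ.sing x ∧ x ∈ Φ.perp v.sp.1} ≃ v.sp.1 ⊕ {x : V // x ∉ v.sp.1 ∧ Φ.sing x ∧ x ∈ Φ.perp v.sp.1} :=
        { toFun := fun x => if hx : x.1 ∈ v.sp.1 then Sum.inl ⟨x.1, hx⟩ else Sum.inr ⟨x.1, hx, x.2⟩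
          invFun := fun s => Sum.elim (fun x => ⟨x.1, v.sp.2.1.1 x.1 x.2, fun y hy => v.sp.2.1.2 _ x.2 _ hy⟩)
            (fun x => ⟨x.1, x.2.2⟩) s
          left_inv := fun x => by
            by_cases hx : x.1 ∈ v.sp.1
            · simp only [hx, dif_pos, Sum.elim_inl]
            · simp only [hx, dif_neg, not_false_iff, Sum.elim_inr]
          right_inv := fun s => by
            rcases s with x | x
            · exact dif_pos x.2
            · exact dif_neg x.2.1 }
      rw [Nat.card_congr e, Nat.card_sum]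
    have h3 : Nat.card v.sp.1 = Nat.card F ^ k := by
      rw [Module.natCard_eq_pow_finrank (K := F), v.sp.2.2]
    rw [h1, h3, mul_add, mul_one] at h2
    omega
  rw [Finset.sum_congr rfl fun v _ => key v, Finset.sum_const, Finset.card_univ, smul_eq_mul]

/-- the frames of a given subspace -/
noncomputable def fibEquiv {k : ℕ} (U : Φ.X k) : {v : Fr Φ k // v.sp = U} ≃ {s : Fin k → U.1 // LinearIndependent F s} where
  toFun v := ⟨fun i => ⟨v.1.1 i, by
      have h1 : v.1.sp.1 = U.1 := congrArg Subtype.val v.2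
      rw [← h1]
      exact Submodule.subset_span (Set.mem_range_self i)⟩,
    LinearIndependent.of_comp U.1.subtype (by exact v.1.2.1)⟩
  invFun s := by
    have h1 : LinearIndependent F (fun i => (s.1 i : V)) := s.2.map' U.1.subtype U.1.ker_subtype
    have h2 : Submodule.span F (Set.range fun i => (s.1 i : V)) = U.1 := by
      refine Submodule.eq_of_le_of_finrank_le (Submodule.span_le.2 ?_) ?_
      · rintro _ ⟨i, rfl⟩
        exact (s.1 i).2
      · rw [finrank_span_eq_card h1, Fintype.card_fin, U.2.2]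
    exact ⟨⟨fun i => (s.1 i : V), h1, by rw [h2]; exact U.2.1⟩, Subtype.ext h2⟩
  left_inv v := by
    apply Subtype.ext
    apply Subtype.ext
    rfl
  right_inv s := by
    apply Subtype.ext
    rfl

theorem card_fr_eq (k : ℕ) : Nat.card (Fr Φ k) =
    Nat.card (Φ.X k) * ∏ i ∈ Finset.range k, (Nat.card F ^ k - Nat.card F ^ i) := by
  have hF : Fintype F := Fintype.ofFinite F
  rw [Nat.card_congr (Equiv.sigmaFiberEquiv (Fr.sp (Φ := Φ) (k := k))).symm, Nat.card_sigma]
  have key : ∀ U : Φ.X k, Nat.card {v : Fr Φ k // v.sp = U} = ∏ i ∈ Finset.range k, (Nat.card F ^ k - Nat.card F ^ i) := by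
    intro U
    have hU : Finite U.1 := Module.finite_of_finite F
    rw [Nat.card_congr (fibEquiv U), card_linearIndependent U.2.2.ge, U.2.2, Finset.prod_range, Nat.card_eq_fintype_card]
  rw [Finset.sum_congr rfl fun U _ => key U, Finset.sum_const, Finset.card_univ, smul_eq_mul,
    Nat.card_eq_fintype_card (α := Φ.X k)]

/-- **the number of totally singular subspaces** -/
theorem card_X (hself : ∀ x, Φ.sing x → Φ.L x x = 0 ∧ ∀ a : F, Φ.sing (a • x)) (a : ℕ → ℕ) (w : ℕ)
    (h : ∀ k < w, ∀ U : Φ.X k, Nat.card {v : V // Φ.sing v ∧ v ∈ Φ.perp U.1} = Nat.card F ^ k * (a k + 1)) (k : ℕ)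
    (hk : k ≤ w) :
    Nat.card (Φ.X k) * ∏ i ∈ Finset.range k, (Nat.card F ^ (i + 1) - 1) = ∏ i ∈ Finset.range k, a i := by
  have h0 : Nat.card (Fr Φ 0) = 1 := by
    rw [Nat.card_eq_one_iff_unique]
    refine ⟨⟨fun v w => Subtype.ext (Subsingleton.elim _ _)⟩, ⟨⟨![], linearIndependent_empty_type, ?_⟩⟩⟩
    rw [Matrix.range_empty, Submodule.span_empty]
    exact Φ.TI_bot
  have h1 : Nat.card (Fr Φ k) = ∏ i ∈ Finset.range k, (Nat.card F ^ i * a i) := by
    induction k with
    | zero => rw [h0, Finset.prod_range_zero]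
    | succ k ih => rw [card_fr_succ hself k (a k) (h k hk), ih (Nat.le_of_succ_le hk), Finset.prod_range_succ]
  have hq : 1 < Nat.card F := Finite.one_lt_card
  have h2 : ∏ i ∈ Finset.range k, (Nat.card F ^ k - Nat.card F ^ i) =
      (∏ i ∈ Finset.range k, Nat.card F ^ i) * ∏ i ∈ Finset.range k, (Nat.card F ^ (i + 1) - 1) := by
    rw [← Finset.prod_range_reflect (fun i => Nat.card F ^ (i + 1) - 1), ← Finset.prod_mul_distrib]
    refine Finset.prod_congr rfl fun i hi => ?_
    have hi' := Finset.mem_range.1 hi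
    rw [Nat.mul_sub, mul_one, ← pow_add, show i + (k - 1 - i + 1) = k by omega]
  rw [card_fr_eq, h2, Finset.prod_mul_distrib] at h1
  have h3 : 0 < ∏ i ∈ Finset.range k, Nat.card F ^ i := Finset.prod_pos fun i _ => by positivity
  refine Nat.eq_of_mul_eq_mul_left h3 ?_
  rw [← h1]
  ring

end Cfsg.Agent.H31.BR.CardX
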