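import Cfsg.Agent.H31.BR.Arith
import Cfsg.Agent.H674.BR.Model
import Cfsg.Agent.H646.BR.CntGen
import Cfsg.Agent.H623.BR.Polar
import Cfsg.Agent.H145.BR.RowZ

/-!
# S4891 : the data for the rows of the symplectic and orthogonal groups (helper31)

`PolInst p Φ ρ ι ρ' π w ε K` : `Φ` is a polar space of rank `w` and type `ε` over the finite field `F`, `G` acts on it with
Witt's property, `ι : H → G` is injective with index prime to `p`, `π : H → S` is surjective with central kernel of order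
prime to `p`; `H` is transitive on the pairs of totally singular `j`-spaces of each type for `j ≤ K`; the automorphisms of
`S` of order a power of `p` are induced by semisimilarities.

The rows are in `H31/BR/PolRow.lean`: `PolInst.rowZ_sp` (symplectic, odd orthogonal: `ε = 1`, `K = w`), `PolInst.rowZ_minus`
(`ε = 2`, `K = w`), `PolInst.rowZ_plus` (`ε = 0`, all `k` with `2 k < w` are `≤ K`).
-/

set_option autoImplicit false

open Module Subgroup Cfsg
open Cfsg.Agent.H2.Pol Cfsg.Agent.H674.BR Cfsg.Agent.H646.BR Cfsg.Agent.H145.BR Cfsg.Agent.H623.BR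

namespace Cfsg.Agent.H31.BR

open Arith

universe u v

/-- the data of a row of a classical group with a bilinear form -/
structure PolInst (p : ℕ) {F V : Type*} {G H : Type*} {S : Type u} [Field F] [Fintype F] [AddCommGroup V] [Module F V]
    [FiniteDimensional F V] [Group G] [Group H] [Group S] (Φ : Pol F V) (ρ : G →* (V ≃ₗ[F] V)) (ι : H →* G)
    (ρ' : H →* (V ≃ₗ[F] V)) (π : H →* S) (w ε K : ℕ) : Prop where
  /-- `G` preserves the form -/
  pres : Pres Φ ρ
  /-- `ρ'` is the restriction of `ρ` -/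
  comp : ∀ h : H, ρ (ι h) = ρ' h
  /-- `S` is a quotient of `H` by a subgroup acting by scalars -/
  model : Model Φ ρ' π
  /-- Witt's property of `G` -/
  witt : WittTS Φ ρ
  inj : Function.Injective ι
  idx : ¬ p ∣ ι.range.index
  ker_le : π.ker ≤ Subgroup.center H
  ker_card : ¬ p ∣ Nat.card π.ker
  La : ∀ x y y' : V, Φ.L (y + y') x = Φ.L y x + Φ.L y' x
  Ls : ∀ (a : F) (x y : V), Φ.L (a • y) x = a * Φ.L y x
  /-- the numbers of totally singular subspaces -/
  card : CC (Nat.card F) w ε (fun k => Nat.card (Φ.X k))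
  K_le : K ≤ w
  reg : ∃ cc : ℕ → ℕ, Φ.Reg cc
  /-- transitivity on the pairs of each type -/
  pair : ∀ j, 1 ≤ j → j ≤ K → ∀ U U2 W W2 : Φ.X j, typ Φ U.1 U2.1 = typ Φ W.1 W2.1 →
    ∃ g : H, U.1.map (ρ' g : V →ₗ[F] V) = W.1 ∧ U2.1.map (ρ' g : V →ₗ[F] V) = W2.1
  /-- the automorphisms of `S` of order a power of `p` -/
  aut : ∀ a : MulAut S, (∃ k : ℕ, orderOf a = p ^ k) → ∃ M : V ≃+ V, SemiAct Φ M ∧ Induces ρ' π M a

variable {p : ℕ} [hp : Fact p.Prime] {F V : Type*} {G H : Type*} {S : Type u} [Field F] [Fintype F] [AddCommGroup V]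
  [Module F V] [FiniteDimensional F V] [Group G] [Group H] [Group S] {Φ : Pol F V} {ρ : G →* (V ≃ₗ[F] V)} {ι : H →* G}
  {ρ' : H →* (V ≃ₗ[F] V)} {π : H →* S} {w ε K : ℕ}

omit hp in
/-- transitivity on the totally singular `k`-spaces -/
theorem PolInst.pretransitive (I : PolInst p Φ ρ ι ρ' π w ε K) {k : ℕ} (h1 : 1 ≤ k) (hk : k ≤ K) :
    letI := I.model.mulAction k; MulAction.IsPretransitive S (Φ.X k) := by
  refine I.model.pretransitive k fun U W => ?_
  have h2 : ∀ U : Φ.X k, typ Φ U.1 U.1 = (k, k) := by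
    intro U
    have h3 : U.1 ≤ Φ.perp U.1 := (Φ.orth_iff_le_perp).1 U.2.1.orth
    rw [typ, inf_idem, inf_eq_left.2 h3, U.2.2]
  obtain ⟨g, hg, -⟩ := I.pair k h1 hk U U W W (by rw [h2, h2])
  exact ⟨g, Subtype.ext hg⟩

omit hp in
/-- the group `S` acts by automorphisms of the polar space -/
theorem PolInst.act (I : PolInst p Φ ρ ι ρ' π w ε K) :
    letI := fun j => I.model.mulAction j; Act Φ S := by
  let _ := fun j => I.model.mulAction j
  refine Act.of_linear fun s => ?_
  obtain ⟨h, rfl⟩ := I.model.surj s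
  refine ⟨ρ' h, fun x y => ?_, fun j U => ?_⟩
  · rw [← I.comp h, (I.pres (ι h)).1]
  · exact congrArg Subtype.val (I.model.smul_eq j h U)

omit hp in
/-- the irreducible constituents are integer valued -/
theorem PolInst.int [Finite S] [Fintype S] (I : PolInst p Φ ρ ι ρ' π w ε K) {k : ℕ} (hk : k ≤ K) (χ : IrrCharacter S)
    (h : letI := I.model.mulAction k; classInner (permC S (Φ.X k)) (χ : S → ℂ) ≠ 0) (g : S) :
    ∃ z : ℤ, (χ : S → ℂ) g = z := by
  let _ := fun j => I.model.mulAction j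
  obtain ⟨cc, hcc⟩ := I.reg
  refine polar_permC hcc I.act (k := k) ?_ χ.2 (Or.inl h) g
  intro j hj1 hj U U2 W W2 hty
  obtain ⟨g, hg1, hg2⟩ := I.pair j hj1 (hj.trans hk) U U2 W W2 hty
  exact ⟨π g, (I.model.smul_eq j g U).trans (Subtype.ext hg1), (I.model.smul_eq j g U2).trans (Subtype.ext hg2)⟩

omit hp in
/-- invariance of the permutation character -/
theorem PolInst.inv (I : PolInst p Φ ρ ι ρ' π w ε K) (k : ℕ) (a : MulAut S) (ha : ∃ j : ℕ, orderOf a = p ^ j) (g : S) :
    (letI := I.model.mulAction k; permC S (Φ.X k) (a g)) = (letI := I.model.mulAction k; permC S (Φ.X k) g) := by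
  obtain ⟨M, hM, hind⟩ := I.aut a ha
  exact I.model.permC_aut k hM hind g

end Cfsg.Agent.H31.BR
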