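import Cfsg.Agent.H31.BR.PolInst
import Cfsg.Agent.H145.BR.Count

/-!
# S4891 : the rows of the symplectic and orthogonal groups from the polar space (helper31)

* `PolInst.rowZ_of_dvd` : `p ∣ |X k|`, `1 ≤ k ≤ K`, gives `RowZ p S`;
* `PolInst.rowZ_lin` : `d ∣ k` (`d` the order of `q`, odd) and `|X k| ≠ 1` modulo `p` gives `RowZ p S`;
* `PolInst.rowZ` : the assembly with the arithmetic of `Arith`;
* `PolInst.rowZ_sp`, `PolInst.rowZ_minus`, `PolInst.rowZ_plus` : the families.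
-/

set_option autoImplicit false

open Module Subgroup Cfsg
open Cfsg.Agent.H2.Pol Cfsg.Agent.H674.BR Cfsg.Agent.H646.BR Cfsg.Agent.H145.BR Cfsg.Agent.H623.BR

namespace Cfsg.Agent.H31.BR

open Arith

universe u v

variable {p : ℕ} [hp : Fact p.Prime] {F V : Type*} {G H : Type*} {S : Type u} [Field F] [Fintype F] [AddCommGroup V]
  [Module F V] [FiniteDimensional F V] [Group G] [Group H] [Group S] {Φ : Pol F V} {ρ : G →* (V ≃ₗ[F] V)} {ι : H →* G}
  {ρ' : H →* (V ≃ₗ[F] V)} {π : H →* S} {w ε K : ℕ}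

theorem CC.pos {q w ε : ℕ} {c : ℕ → ℕ} (hc : CC q w ε c) (hq : 1 < q) {k : ℕ} (hk : k ≤ w) : 0 < c k := by
  have h1 : 0 < ∏ i ∈ Finset.range k, ((q ^ (w - i) - 1) * (q ^ (w - 1 - i + ε) + 1)) := by
    refine Finset.prod_pos fun i hi => ?_
    have h2 := Finset.mem_range.1 hi
    have h3 : 1 < q ^ (w - i) := Nat.one_lt_pow (by omega) hq
    exact Nat.mul_pos (by omega) (Nat.succ_pos _)
  rw [← hc k hk] at h1
  exact Nat.pos_of_ne_zero fun h0 => by
    rw [h0, zero_mul] at h1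
    exact h1.false

/-- **the criterion** -/
theorem PolInst.rowZ_of_cnt [Finite S] (I : PolInst p Φ ρ ι ρ' π w ε K) {k : ℕ} (h1 : 1 ≤ k) (hk : k ≤ K) (P : Sylow p S)
    (h : letI := I.model.mulAction k; ¬ cnt (P : Subgroup S) (Φ.X k) ≡ 1 [MOD p]) : RowZ p S := by
  have _ := Fintype.ofFinite S
  let _ := I.model.mulAction k
  have _ := I.pretransitive h1 hk
  have _ : Nonempty (Φ.X k) := by
    have h2 : 0 < Nat.card (Φ.X k) := CC.pos I.card Finite.one_lt_card (hk.trans I.K_le)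
    exact (Nat.card_pos_iff.1 h2).1
  exact Cfsg.Agent.H145.BR.rowZ_of_cnt P (Φ.X k) (fun a ha g => I.inv k a ha g) (fun χ hχ g => I.int hk χ hχ g) h

/-- a Sylow subgroup has no fixed points on a transitive set of cardinality divisible by `p` -/
theorem cnt_eq_zero {S X : Type*} [Group S] [Finite S] [MulAction S X] [Finite X] [MulAction.IsPretransitive S X]
    (P : Sylow p S) (hd : p ∣ Nat.card X) : cnt (P : Subgroup S) X = 0 := by
  have h1 : IsEmpty {x : X // ∀ g ∈ (P : Subgroup S), g • x = x} := by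
    refine ⟨fun x => ?_⟩
    have h2 : (P : Subgroup S) ≤ MulAction.stabilizer S x.1 := fun g hg => x.2 g hg
    have h3 : (MulAction.stabilizer S x.1).index = Nat.card X := MulAction.index_stabilizer_of_transitive S x.1
    exact P.not_dvd_index ((h3 ▸ hd).trans (Subgroup.index_dvd_of_le h2))
  unfold cnt
  have h2 : IsEmpty (Quot fun x y : {x : X // ∀ g ∈ (P : Subgroup S), g • x = x} =>
      ∃ c ∈ centralizer ((P : Subgroup S) : Set S), c • x.1 = y.1) := ⟨fun q => by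
    obtain ⟨x, -⟩ := Quot.exists_rep q
    exact h1.elim x⟩
  exact Nat.card_of_isEmpty

/-- **`p` divides the number of totally singular `k`-spaces** -/
theorem PolInst.rowZ_of_dvd [Finite S] (I : PolInst p Φ ρ ι ρ' π w ε K) {k : ℕ} (h1 : 1 ≤ k) (hk : k ≤ K)
    (hd : p ∣ Nat.card (Φ.X k)) : RowZ p S := by
  obtain ⟨P⟩ : Nonempty (Sylow p S) := inferInstance
  refine I.rowZ_of_cnt h1 hk P ?_
  let _ := I.model.mulAction k
  have _ := I.pretransitive h1 hk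
  rw [cnt_eq_zero P hd]
  intro h
  have h2 := (Nat.modEq_iff_dvd' (Nat.zero_le 1)).1 h
  exact hp.out.one_lt.ne' (Nat.dvd_one.1 h2)

/-- **linear type** -/
theorem PolInst.rowZ_lin [Finite S] [Finite G] (I : PolInst p Φ ρ ι ρ' π w ε K) (hp2 : p ≠ 2)
    (hpq : ¬ p ∣ Nat.card F) (hodd : Odd (orderOf ((Nat.card F : ℕ) : ZMod p))) {k : ℕ} (h1 : 1 ≤ k) (hk : k ≤ K)
    (hdk : orderOf ((Nat.card F : ℕ) : ZMod p) ∣ k) (h : ¬ Nat.card (Φ.X k) ≡ 1 [MOD p]) : RowZ p S := by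
  obtain ⟨P⟩ : Nonempty (Sylow p S) := inferInstance
  refine I.rowZ_of_cnt h1 hk P ?_
  let _ := I.model.mulAction k
  intro h2
  apply h
  refine Nat.ModEq.trans (Nat.ModEq.symm ?_) h2
  obtain ⟨r, hr⟩ := CharP.exists F
  obtain ⟨⟨l, hl⟩, hrp, hcard⟩ := FiniteField.card F r
  have := Fact.mk hrp
  have hq0 : 0 < Nat.card F := Nat.card_pos
  refine cnt_gen (ρ := ρ) I.pres I.witt (r := r) (s := 1) (j := 0) (by rwa [← Nat.card_eq_fintype_card]) (pow_zero r).symm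
    (fun i hi => ?_) I.La (fun a x y => by rw [pow_one]; exact I.Ls a x y) ι I.inj I.idx π I.model.surj I.ker_le I.ker_card
    (fun h U => ?_) (d := orderOf ((Nat.card F : ℕ) : ZMod p)) ?_ hdk P
  · rw [one_mul, ← Nat.card_eq_fintype_card] at hi
    exact not_dvd_add_one hp2 hodd i hi
  · have h3 := congrArg Subtype.val (I.model.smul_eq k h U)
    refine h3.trans ?_
    show U.1.map (ρ' h : V →ₗ[F] V) = U.1.map (ρ (ι h) : V →ₗ[F] V)
    rw [I.comp h]
  · rw [← Nat.card_eq_fintype_card, dvd_sub_one hq0]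

/-- **THE ROW** -/
theorem PolInst.rowZ [Finite S] [Finite G] (I : PolInst p Φ ρ ι ρ' π w ε K) (hp2 : p ≠ 2) (hpq : ¬ p ∣ Nat.card F)
    (hd1 : 2 ≤ orderOf ((Nat.card F : ℕ) : ZMod p))
    (h : (∃ k, 1 ≤ k ∧ k ≤ K ∧ p ∣ Nat.card (Φ.X k)) ∨
      (Odd (orderOf ((Nat.card F : ℕ) : ZMod p)) ∧ ∃ a, 1 ≤ a ∧
        w = a * orderOf ((Nat.card F : ℕ) : ZMod p) + (orderOf ((Nat.card F : ℕ) : ZMod p) - 1) ∧
        orderOf ((Nat.card F : ℕ) : ZMod p) ≤ K ∧
        (orderOf ((Nat.card F : ℕ) : ZMod p) + 1 ≤ a → 2 * orderOf ((Nat.card F : ℕ) : ZMod p) ≤ K))) : RowZ p S := by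
  rcases h with ⟨k, h1, hk, hd⟩ | ⟨hodd, a, ha, hw, hdK, hdK2⟩
  · exact I.rowZ_of_dvd h1 hk hd
  · have hq1 : 1 < Nat.card F := Finite.one_lt_card
    set q := Nat.card F with hq
    set d := orderOf ((q : ℕ) : ZMod p) with hd
    have h3 : (Nat.card (Φ.X d) : ZMod p) = 2 * a := card_lin hp2 hq1 hpq I.card hodd (by omega) ha hw
    by_cases h4 : (2 * a : ZMod p) = 1
    · obtain ⟨h5, h6⟩ := lin_arith hp2 hpq hodd hd1 h4
      have h7 : (Nat.card (Φ.X (2 * d)) : ZMod p) = 2 * a * (a - 1) :=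
        card_lin_two hp2 hq1 hpq I.card hodd (by omega) (by omega) hw
      refine I.rowZ_lin hp2 hpq hodd (k := 2 * d) (by omega) (hdK2 h5) (dvd_mul_left _ _) fun h8 => h6 ?_
      have h9 := (ZMod.natCast_eq_natCast_iff _ _ _).2 h8
      rw [← h7, h9, Nat.cast_one]
    · refine I.rowZ_lin hp2 hpq hodd (k := d) (by omega) hdK dvd_rfl fun h8 => h4 ?_
      have h9 := (ZMod.natCast_eq_natCast_iff _ _ _).2 h8
      rw [← h3, h9, Nat.cast_one]

/-- **symplectic and odd orthogonal groups** (`ε = 1`, `K = w`) -/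
theorem PolInst.rowZ_sp [Finite S] [Finite G] (I : PolInst p Φ ρ ι ρ' π w 1 w) (hp2 : p ≠ 2) (hpq : ¬ p ∣ Nat.card F)
    (hd1 : 2 ≤ orderOf ((Nat.card F : ℕ) : ZMod p))
    (hS : p ∣ ∏ i ∈ Finset.range w, (Nat.card F ^ (2 * (i + 1)) - 1)) : RowZ p S := by
  have hq1 : 1 < Nat.card F := Finite.one_lt_card
  refine I.rowZ hp2 hpq hd1 ?_
  rcases cases_sp hq1 hpq I.card hd1 hS with h | ⟨hodd, a, ha, hw⟩
  · exact Or.inl h
  · refine Or.inr ⟨hodd, a, ha, hw, ?_, fun h => ?_⟩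
    · have := Nat.le_mul_of_pos_left (orderOf ((Nat.card F : ℕ) : ZMod p)) ha
      omega
    · have : 2 * orderOf ((Nat.card F : ℕ) : ZMod p) ≤ a * orderOf ((Nat.card F : ℕ) : ZMod p) :=
        Nat.mul_le_mul_right _ (by omega)
      omega

/-- **orthogonal groups of minus type** (`ε = 2`, `K = w`, dimension `2 (w + 1)`) -/
theorem PolInst.rowZ_minus [Finite S] [Finite G] (I : PolInst p Φ ρ ι ρ' π w 2 w) (hp2 : p ≠ 2) (hpq : ¬ p ∣ Nat.card F)
    (hd1 : 2 ≤ orderOf ((Nat.card F : ℕ) : ZMod p)) (hw2 : 2 ≤ w)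
    (hS : p ∣ (Nat.card F ^ (w + 1) + 1) * ∏ i ∈ Finset.range w, (Nat.card F ^ (2 * (i + 1)) - 1)) : RowZ p S := by
  have hq1 : 1 < Nat.card F := Finite.one_lt_card
  refine I.rowZ hp2 hpq hd1 ?_
  rcases cases_minus hq1 hp2 hpq hw2 I.card hd1 hS with h | ⟨hodd, a, ha, hw⟩
  · exact Or.inl h
  · refine Or.inr ⟨hodd, a, ha, hw, ?_, fun h => ?_⟩
    · have := Nat.le_mul_of_pos_left (orderOf ((Nat.card F : ℕ) : ZMod p)) ha
      omega
    · have : 2 * orderOf ((Nat.card F : ℕ) : ZMod p) ≤ a * orderOf ((Nat.card F : ℕ) : ZMod p) :=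
        Nat.mul_le_mul_right _ (by omega)
      omega

/-- **orthogonal groups of plus type** (`ε = 0`, `2 K < w`), `m = w ≥ 5`, all cases but `m = 2 d - 1`, `m = 2 d - 2` with `d`
odd (cyclic Sylow subgroups) and `m = 6`, `d = 4` -/
theorem PolInst.rowZ_plus [Finite S] [Finite G] (I : PolInst p Φ ρ ι ρ' π w 0 K) (hK : ∀ k, 2 * k < w → k ≤ K)
    (hp2 : p ≠ 2) (hpq : ¬ p ∣ Nat.card F)
    (hd1 : 2 ≤ orderOf ((Nat.card F : ℕ) : ZMod p)) (hw5 : 5 ≤ w)
    (hS : p ∣ (Nat.card F ^ w - 1) * ∏ i ∈ Finset.range (w - 1), (Nat.card F ^ (2 * (i + 1)) - 1))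
    (hex1 : w ≠ 2 * orderOf ((Nat.card F : ℕ) : ZMod p) - 1) (hex2 : w ≠ 2 * orderOf ((Nat.card F : ℕ) : ZMod p) - 2 ∨
      Even (orderOf ((Nat.card F : ℕ) : ZMod p)))
    (hex3 : ¬ (w = 6 ∧ orderOf ((Nat.card F : ℕ) : ZMod p) = 4)) : RowZ p S := by
  have hq1 : 1 < Nat.card F := Finite.one_lt_card
  refine I.rowZ hp2 hpq hd1 ?_
  rcases Nat.even_or_odd (orderOf ((Nat.card F : ℕ) : ZMod p)) with he | hodd
  · obtain ⟨j, hj⟩ := he
    rcases cases_plus_even hq1 hw5 I.card (j := j) (by omega) (by omega) hS with ⟨k, h1, h2, h3⟩ | h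
    · exact Or.inl ⟨k, h1, hK k h2, h3⟩
    · exact absurd h hex3
  · rcases cases_plus_odd hq1 hpq hw5 I.card hd1 hodd hS with ⟨k, h1, h2, h3⟩ | ⟨a, ha, hw⟩ | h
    · exact Or.inl ⟨k, h1, hK k h2, h3⟩
    · have ha2 : 2 ≤ a := by
        by_contra h4
        have : a = 1 := by omega
        subst this
        omega
      have h5 : 2 * orderOf ((Nat.card F : ℕ) : ZMod p) ≤ a * orderOf ((Nat.card F : ℕ) : ZMod p) :=
        Nat.mul_le_mul_right _ (by omega)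
      refine Or.inr ⟨hodd, a, ha, hw, hK _ (by omega), fun h => hK _ ?_⟩
      have h6 : 4 * orderOf ((Nat.card F : ℕ) : ZMod p) ≤ a * orderOf ((Nat.card F : ℕ) : ZMod p) := by
        refine Nat.mul_le_mul_right _ ?_
        obtain ⟨t, ht⟩ := hodd
        omega
      omega
    · rcases hex2 with h' | h'
      · exact absurd h h'
      · exact absurd hodd (Nat.not_odd_iff_even.2 h')

end Cfsg.Agent.H31.BR
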